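import Groth.Agent.S5434
import Groth.Agent.S5435
import Groth.Agent.S3843
import Groth.Agent.S3015
import Groth.Agent.GrpSchLib.Component
import Mathlib.AlgebraicGeometry.Sites.Fpqc

/-!
# Homomorphisms from multiplicative maps on relatively schematically dense opens
-/

set_option autoImplicit false
set_option backward.isDefEq.respectTransparency.types false
set_option backward.isDefEq.respectTransparency false
set_option linter.style.setOption false
set_option linter.style.haveILetI false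
set_option linter.unusedSectionVars false

universe u

open CategoryTheory CategoryTheory.Limits MonoidalCategory CartesianMonoidalCategory MonObj AlgebraicGeometry

noncomputable section

namespace Groth.Agent.WeilHom

/-- Flat and locally of finite presentation. -/
abbrev FL : MorphismProperty Scheme.{u} := @Flat ⊓ @LocallyOfFinitePresentation

theorem fl_comp {X Y Z : Scheme.{u}} {f : X ⟶ Y} {g : Y ⟶ Z} (hf : FL f) (hg : FL g) : FL (f ≫ g) :=
  ⟨MorphismProperty.comp_mem @Flat f g hf.1 hg.1, MorphismProperty.comp_mem @LocallyOfFinitePresentation f g hf.2 hg.2⟩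

variable {S : Scheme.{u}}

/-- Universally schematically dense opens. -/
def UDense (X : Over S) (O : X.left.Opens) : Prop :=
  ∀ (S' : Scheme.{u}) (g : S' ⟶ S), CInt.IsSchematicallyDense ((pullback.fst X.hom g) ⁻¹ᵁ O)

theorem UDense.inter {X : Over S} {O O' : X.left.Opens} (h : UDense X O) (h' : UDense X O') :
    UDense X (O ⊓ O') := by
  intro S' g W a b hab
  refine h S' g W (h' S' g _ ?_)
  have hle : (W ⊓ pullback.fst X.hom g ⁻¹ᵁ O) ⊓ pullback.fst X.hom g ⁻¹ᵁ O' ≤
      W ⊓ pullback.fst X.hom g ⁻¹ᵁ (O ⊓ O') := fun _ hx => ⟨hx.1.1, hx.1.2, hx.2⟩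
  have := congrArg ((pullback X.hom g).presheaf.map (homOfLE hle).op) hab
  show RatDense.res inf_le_left (RatDense.res inf_le_left a) = RatDense.res inf_le_left (RatDense.res inf_le_left b)
  rw [RatDense.res_res, RatDense.res_res]
  exact (RatDense.res_res inf_le_left hle a).symm.trans (this.trans (RatDense.res_res inf_le_left hle b))

theorem UDense.preimage {X Y : Over S} {O : Y.left.Opens} (h : UDense Y O) (w : X ⟶ Y) (hw : FL w.left) :
    UDense X (w.left ⁻¹ᵁ O) := by
  intro S' g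
  haveI : Flat ((Over.pullback g).map w).left := MorphismProperty.overPullbackMap (P := @Flat) g w hw.1
  haveI : LocallyOfFinitePresentation ((Over.pullback g).map w).left :=
    MorphismProperty.overPullbackMap (P := @LocallyOfFinitePresentation) g w hw.2
  have := S3843.result ((Over.pullback g).map w).left _ (h S' g)
  have e : ((Over.pullback g).map w).left ≫ pullback.fst Y.hom g = pullback.fst X.hom g ≫ w.left :=
    pullback.lift_fst _ _ _
  rwa [← Scheme.Hom.comp_preimage, e, Scheme.Hom.comp_preimage] at this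

/-- The open subobject. -/
abbrev sub (X : Over S) (O : X.left.Opens) : Over S := Over.mk (O.ι ≫ X.hom)

/-- Its inclusion. -/
abbrev incl (X : Over S) (O : X.left.Opens) : sub X O ⟶ X := Over.homMk O.ι

theorem exists_factor {X Y : Over S} {U : Y.left.Opens} (j : sub Y U ⟶ Y) (hj : j.left = U.ι) (w : X ⟶ Y)
    (h : ∀ x, w.left x ∈ U) : ∃ c : X ⟶ sub Y U, c ≫ j = w := by
  have hr : Set.range w.left ⊆ Set.range U.ι := by
    rw [Scheme.Opens.range_ι]; rintro _ ⟨x, rfl⟩; exact h x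
  refine ⟨Over.homMk (IsOpenImmersion.lift U.ι w.left hr) ?_, Over.OverMorphism.ext ?_⟩
  · show _ ≫ U.ι ≫ Y.hom = X.hom
    rw [IsOpenImmersion.lift_fac_assoc, Over.w]
  · show _ ≫ j.left = w.left
    rw [hj]; exact IsOpenImmersion.lift_fac _ _ hr

theorem eq_of_eq_on {X H : Over S} [GrpObj H] {O : X.left.Opens} (hO : UDense X O) (f g : X ⟶ H)
    (h : incl X O ≫ f = incl X O ≫ g) : f = g := by
  refine S5434.result S X H O hO (fun s => ?_) f g (congrArg CommaMorphism.left h)
  exact GrpSchLib.isSeparated_hom (G := Red.bc (S.fromSpecResidueField s) H)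

variable {G : Over S} [GrpObj G]

theorem fl_fst {X Y : Over S} (hY : FL Y.hom) : FL (fst X Y).left :=
  ⟨MorphismProperty.pullback_fst X.hom Y.hom hY.1, MorphismProperty.pullback_fst X.hom Y.hom hY.2⟩

theorem fl_snd {X Y : Over S} (hX : FL X.hom) : FL (snd X Y).left :=
  ⟨MorphismProperty.pullback_snd X.hom Y.hom hX.1, MorphismProperty.pullback_snd X.hom Y.hom hX.2⟩

theorem fl_whisker {X Y : Over S} (w : X ⟶ Y) (hw : FL w.left) (Z : Over S) : FL (w ▷ Z).left := by
  have h : IsPullback (w ▷ Z).left (fst X Z).left (fst Y Z).left w.left := by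
    refine IsPullback.of_right (h₁₂ := (snd Y Z).left) (v₁₃ := Z.hom) (h₂₂ := Y.hom) ?_ ?_
      (IsPullback.of_hasPullback Y.hom Z.hom).flip
    · rw [← Over.comp_left, whiskerRight_snd, Over.w w]
      exact (IsPullback.of_hasPullback X.hom Z.hom).flip
    · rw [← Over.comp_left, whiskerRight_fst, Over.comp_left]
  exact ⟨MorphismProperty.of_isPullback (P := @Flat) h.flip hw.1,
    MorphismProperty.of_isPullback (P := @LocallyOfFinitePresentation) h.flip hw.2⟩

theorem fl_iso {X Y : Over S} (e : X ≅ Y) : FL e.hom.left := by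
  haveI : IsIso e.hom.left := inferInstanceAs (IsIso ((Over.forget _).map e.hom))
  exact ⟨inferInstance, inferInstance⟩

theorem fl_hom {X Y : Over S} (w : X ⟶ Y) (hw : FL w.left) (hY : FL Y.hom) : FL X.hom := by
  rw [← Over.w w]; exact fl_comp hw hY

/-- `(x, c) ↦ (x, b(x) c)`. -/
def shift {X : Over S} (b : X ⟶ G) : X ⊗ G ≅ X ⊗ G where
  hom := lift (fst X G) ((fst X G ≫ b) * snd X G)
  inv := lift (fst X G) ((fst X G ≫ b)⁻¹ * snd X G)
  hom_inv_id := by
    apply CartesianMonoidalCategory.hom_ext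
    · simp
    · simp only [Category.assoc, lift_snd, MonObj.comp_mul, GrpObj.comp_inv, lift_fst_assoc, Category.id_comp,
        inv_mul_cancel_left]
  inv_hom_id := by
    apply CartesianMonoidalCategory.hom_ext
    · simp
    · simp only [Category.assoc, lift_snd, MonObj.comp_mul, lift_fst_assoc, Category.id_comp, mul_inv_cancel_left]

/-- `(x, c) ↦ (x c⁻¹, c)`. -/
def divR : G ⊗ G ≅ G ⊗ G where
  hom := lift (fst G G * (snd G G)⁻¹) (snd G G)
  inv := lift (fst G G * snd G G) (snd G G)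
  hom_inv_id := by
    apply CartesianMonoidalCategory.hom_ext
    · simp only [Category.assoc, lift_fst, MonObj.comp_mul, lift_snd, Category.id_comp, inv_mul_cancel_right]
    · simp
  inv_hom_id := by
    apply CartesianMonoidalCategory.hom_ext
    · simp only [Category.assoc, lift_fst, MonObj.comp_mul, GrpObj.comp_inv, lift_snd, Category.id_comp,
        mul_inv_cancel_right]
    · simp

theorem fl_μ (hG : FL G.hom) : FL μ[G].left := by
  have e : μ[G] = (shift (𝟙 G)).hom ≫ snd G G := by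
    rw [show (shift (𝟙 G)).hom ≫ snd G G = (fst G G ≫ 𝟙 G) * snd G G from lift_snd _ _, Category.comp_id,
      Hom.mul_def, lift_fst_snd, Category.id_comp]
  rw [e, Over.comp_left]
  exact fl_comp (fl_iso _) (fl_snd hG)

/-- Products of pairs in a schematically dense open cover. -/
theorem surjective_mul (U : G.left.Opens) (hU : UDense G U) (j : sub G U ⟶ G) (hj : j.left = U.ι) :
    Surjective ((j ⊗ₘ j) ≫ μ[G]).left := by
  refine ⟨fun x => ?_⟩
  let s : S := G.hom x
  let q := S.fromSpecResidueField s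
  let F := Over.pullback q
  let p := pullback.fst G.hom q
  obtain ⟨x', hx⟩ : x ∈ Set.range p := (G.hom.range_fiberι s).ge rfl
  have hd : Dense (p ⁻¹' (U : Set G.left)) := RatDense.dense_of_isSchematicallyDense (U := p ⁻¹ᵁ U) (hU _ q)
  obtain ⟨z, hz1, hz2, hz3⟩ := S3015.result (S.residueField s) (Red.bc q G) (p ⁻¹ᵁ U) (p ⁻¹ᵁ U) hd hd x'
  let w : (Red.bc q G ⊗ Red.bc q G).left ⟶ (G ⊗ G).left :=
    (Functor.LaxMonoidal.μ F G G).left ≫ pullback.fst (G ⊗ G).hom q
  have hw : ∀ (h : G ⊗ G ⟶ G), w ≫ h.left = (Functor.LaxMonoidal.μ F G G ≫ F.map h).left ≫ p := fun h => by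
    rw [Over.comp_left, Category.assoc, Category.assoc,
      show (F.map h).left ≫ p = pullback.fst (G ⊗ G).hom q ≫ h.left from pullback.lift_fst _ _ _]
  have h1 : (w ≫ (fst G G).left) z ∈ U := by
    rw [hw, show Functor.LaxMonoidal.μ F G G ≫ F.map (fst G G) = fst (F.obj G) (F.obj G) by simp]
    exact hz1
  have h2 : (w ≫ (snd G G).left) z ∈ U := by
    rw [hw, show Functor.LaxMonoidal.μ F G G ≫ F.map (snd G G) = snd (F.obj G) (F.obj G) by simp]
    exact hz2
  let O : (G ⊗ G).left.Opens := (fst G G).left ⁻¹ᵁ U ⊓ (snd G G).left ⁻¹ᵁ U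
  obtain ⟨a, ha⟩ := exists_factor j hj (incl (G ⊗ G) O ≫ fst G G) fun y => y.2.1
  obtain ⟨b, hb⟩ := exists_factor j hj (incl (G ⊗ G) O ≫ snd G G) fun y => y.2.2
  let y : O := ⟨w z, h1, h2⟩
  refine ⟨(lift a b).left y, ?_⟩
  have e : lift a b ≫ (j ⊗ₘ j) ≫ μ[G] = incl (G ⊗ G) O ≫ μ[G] := by
    rw [← Category.assoc, lift_map, ha, hb, ← comp_lift, lift_fst_snd, Category.comp_id]
  rw [← Scheme.Hom.comp_apply, ← Over.comp_left, e, Over.comp_left, Scheme.Hom.comp_apply]
  show μ[G].left (w z) = x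
  rw [← Scheme.Hom.comp_apply, hw]
  exact (congrArg p hz3).trans hx

theorem main (H : Over S) [GrpObj H] [Flat G.hom] [LocallyOfFinitePresentation G.hom]
    (U : G.left.Opens) (hU : UDense G U) (jU : sub G U ⟶ G) (hjU : jU.left = U.ι) (F : sub G U ⟶ H)
    (V : (G ⊗ G).left.Opens) (hV : UDense (G ⊗ G) V)
    (hV1 : V ≤ (fst G G).left ⁻¹ᵁ U) (hV2 : V ≤ (snd G G).left ⁻¹ᵁ U)
    (hmul : ∀ (X : Over S) (a b : X ⟶ sub G U),
      Set.range (lift (a ≫ jU) (b ≫ jU)).left.base ⊆ (V : Set ↥(G ⊗ G).left) →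
      ∃ c : X ⟶ sub G U, c ≫ jU = (a ≫ jU) * (b ≫ jU) ∧ c ≫ F = (a ≫ F) * (b ≫ F)) :
    ∃! f : G ⟶ H, IsMonHom f ∧ jU ≫ f = F := by
  have hG : FL G.hom := ⟨‹_›, ‹_›⟩
  have hjFL : FL jU.left := by rw [hjU]; exact ⟨inferInstance, inferInstance⟩
  haveI : Mono jU.left := by rw [hjU]; infer_instance
  haveI : Mono jU := Over.mono_of_mono_left jU
  let P := sub G U ⊗ sub G U
  let ν : P ⟶ G := (jU ⊗ₘ jU) ≫ μ[G]
  let ψ : P ⟶ H := (fst _ _ ≫ F) * (snd _ _ ≫ F)
  have hUo : FL (sub G U).hom := fl_comp ⟨inferInstance, inferInstance⟩ hG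
  have hP : FL P.hom := by
    rw [← Over.w (fst (sub G U) (sub G U))]
    exact fl_comp (fl_fst hUo) hUo
  have hν : FL ν.left := by
    rw [show ν = (jU ▷ sub G U ≫ G ◁ jU) ≫ μ[G] by simp only [ν, MonoidalCategory.tensorHom_def],
      Over.comp_left, Over.comp_left]
    refine fl_comp (fl_comp (fl_whisker jU hjFL _) ?_) (fl_μ hG)
    have h : IsPullback (G ◁ jU).left (snd G (sub G U)).left (snd G G).left jU.left := by
      refine IsPullback.of_right (h₁₂ := (fst G G).left) (v₁₃ := G.hom) (h₂₂ := G.hom) ?_ ?_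
        (IsPullback.of_hasPullback G.hom G.hom)
      · rw [← Over.comp_left, whiskerLeft_fst, Over.w jU]
        exact IsPullback.of_hasPullback G.hom (sub G U).hom
      · rw [← Over.comp_left, whiskerLeft_snd, Over.comp_left]
    exact ⟨MorphismProperty.of_isPullback (P := @Flat) h.flip hjFL.1,
      MorphismProperty.of_isPullback (P := @LocallyOfFinitePresentation) h.flip hjFL.2⟩
  haveI := hν.1
  haveI := hν.2
  haveI : Surjective ν.left := surjective_mul U hU jU hjU
  -- the universal pair of decompositions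
  let R := pullback ν ν
  let p₁ : R ⟶ P := pullback.fst ν ν
  let p₂ : R ⟶ P := pullback.snd ν ν
  have hpb := (IsPullback.of_hasPullback ν ν).map (Over.forget S)
  have hp₁ : FL p₁.left := ⟨MorphismProperty.of_isPullback (P := @Flat) hpb.flip hν.1,
    MorphismProperty.of_isPullback (P := @LocallyOfFinitePresentation) hpb.flip hν.2⟩
  have hp₂ : FL p₂.left := ⟨MorphismProperty.of_isPullback (P := @Flat) hpb hν.1,
    MorphismProperty.of_isPullback (P := @LocallyOfFinitePresentation) hpb hν.2⟩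
  let a := p₁ ≫ fst _ _; let b := p₁ ≫ snd _ _; let a' := p₂ ≫ fst _ _; let b' := p₂ ≫ snd _ _
  have hab : (a ≫ jU) * (b ≫ jU) = (a' ≫ jU) * (b' ≫ jU) := by
    have h : ∀ p : R ⟶ P, p ≫ ν = (p ≫ fst _ _ ≫ jU) * (p ≫ snd _ _ ≫ jU) := fun p => by
      simp only [ν, Hom.mul_def, ← Category.assoc, ← comp_lift]
      congr 1
      apply CartesianMonoidalCategory.hom_ext <;> simp
    have := pullback.condition (f := ν) (g := ν)
    rw [h, h] at this
    simpa only [a, b, a', b', p₁, p₂, Category.assoc] using this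
  have key : p₁ ≫ ψ = p₂ ≫ ψ := by
    have hfl : ∀ (z : R ⟶ sub G U), FL z.left → FL ((z ≫ jU) ▷ G).left := fun z hz =>
      fl_whisker _ (by rw [Over.comp_left]; exact fl_comp hz hjFL) G
    have ha : FL a.left := by rw [Over.comp_left]; exact fl_comp hp₁ (fl_fst hUo)
    have hb : FL b.left := by rw [Over.comp_left]; exact fl_comp hp₁ (fl_snd hUo)
    have ha' : FL a'.left := by rw [Over.comp_left]; exact fl_comp hp₂ (fl_fst hUo)
    have hb' : FL b'.left := by rw [Over.comp_left]; exact fl_comp hp₂ (fl_snd hUo)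
    let w1 := (b ≫ jU) ▷ G
    let w2 := (b' ≫ jU) ▷ G
    let w3 := (shift (b ≫ jU)).hom ≫ (a ≫ jU) ▷ G
    let w4 := (shift (b' ≫ jU)).hom ≫ (a' ≫ jU) ▷ G
    let O : (R ⊗ G).left.Opens := (w1.left ⁻¹ᵁ V ⊓ w2.left ⁻¹ᵁ V) ⊓ (w3.left ⁻¹ᵁ V ⊓ w4.left ⁻¹ᵁ V)
    have hO : UDense (R ⊗ G) O :=
      ((hV.preimage w1 (hfl b hb)).inter (hV.preimage w2 (hfl b' hb'))).inter
        ((hV.preimage w3 (by rw [Over.comp_left]; exact fl_comp (fl_iso _) (hfl a ha))).inter
          (hV.preimage w4 (by rw [Over.comp_left]; exact fl_comp (fl_iso _) (hfl a' ha'))))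
    let i := incl (R ⊗ G) O
    have hlw : ∀ (z : R ⟶ sub G U), i ≫ (z ≫ jU) ▷ G = lift ((i ≫ fst R G ≫ z) ≫ jU) (i ≫ snd R G) := fun z => by
      apply CartesianMonoidalCategory.hom_ext <;> simp
    obtain ⟨c, hc⟩ := exists_factor jU hjU (i ≫ snd R G) fun y => by
      have h := hV2 y.2.1.1
      change (w1 ≫ snd G G).left (i.left y) ∈ U at h
      rw [show w1 ≫ snd G G = snd R G from whiskerRight_snd _ _] at h
      exact h
    obtain ⟨u, hu, huF⟩ := hmul (sub (R ⊗ G) O) (i ≫ fst R G ≫ b) c (by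
      rintro _ ⟨y, rfl⟩
      rw [hc, ← hlw b]
      exact y.2.1.1)
    obtain ⟨u', hu', huF'⟩ := hmul (sub (R ⊗ G) O) (i ≫ fst R G ≫ b') c (by
      rintro _ ⟨y, rfl⟩
      rw [hc, ← hlw b']
      exact y.2.1.2)
    have hlw' : ∀ (x z : R ⟶ sub G U) (v : sub (R ⊗ G) O ⟶ sub G U),
        v ≫ jU = ((i ≫ fst R G ≫ z) ≫ jU) * (c ≫ jU) →
        i ≫ (shift (z ≫ jU)).hom ≫ (x ≫ jU) ▷ G = lift ((i ≫ fst R G ≫ x) ≫ jU) (v ≫ jU) := fun x z v hv => by
      apply CartesianMonoidalCategory.hom_ext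
      · simp [shift]
      · rw [hv, hc]
        simp [shift, MonObj.comp_mul]
    obtain ⟨t, ht, htF⟩ := hmul (sub (R ⊗ G) O) (i ≫ fst R G ≫ a) u (by
      rintro _ ⟨y, rfl⟩
      rw [← hlw' a b u hu]
      exact y.2.2.1)
    obtain ⟨t', ht', htF'⟩ := hmul (sub (R ⊗ G) O) (i ≫ fst R G ≫ a') u' (by
      rintro _ ⟨y, rfl⟩
      rw [← hlw' a' b' u' hu']
      exact y.2.2.2)
    have hjab : ((i ≫ fst R G ≫ a) ≫ jU) * ((i ≫ fst R G ≫ b) ≫ jU) =
        ((i ≫ fst R G ≫ a') ≫ jU) * ((i ≫ fst R G ≫ b') ≫ jU) := by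
      have := congrArg (fun z => i ≫ fst R G ≫ z) hab
      simpa only [MonObj.comp_mul, Category.assoc] using this
    have htt : t = t' := by
      rw [← cancel_mono jU, ht, ht', hu, hu', ← _root_.mul_assoc, ← _root_.mul_assoc, hjab]
    have hF : ((i ≫ fst R G ≫ a) ≫ F) * ((i ≫ fst R G ≫ b) ≫ F) =
        ((i ≫ fst R G ≫ a') ≫ F) * ((i ≫ fst R G ≫ b') ≫ F) := by
      have h := htF.symm.trans ((congrArg (· ≫ F) htt).trans htF')
      rw [huF, huF', ← _root_.mul_assoc, ← _root_.mul_assoc] at h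
      exact mul_right_cancel h
    have h3 : fst R G ≫ p₁ ≫ ψ = fst R G ≫ p₂ ≫ ψ := by
      refine eq_of_eq_on hO _ _ ?_
      simpa only [ψ, a, b, a', b', MonObj.comp_mul, Category.assoc] using hF
    have := congrArg (fun z => lift (𝟙 R) (1 : R ⟶ G) ≫ z) h3
    simpa using this
  -- descend
  let f₀ : G.left ⟶ H.left := EffectiveEpi.desc ν.left ψ.left fun {T} g₁ g₂ hg => by
    let T' : Over S := Over.mk (g₁ ≫ P.hom)
    let h₁ : T' ⟶ P := Over.homMk g₁ rfl
    let h₂ : T' ⟶ P := Over.homMk g₂ (by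
      show g₂ ≫ P.hom = g₁ ≫ P.hom
      rw [← Over.w ν, ← Category.assoc, ← hg, Category.assoc])
    have e := congrArg (fun z => pullback.lift h₁ h₂ (Over.OverMorphism.ext hg) ≫ z) key
    simp only [p₁, p₂, pullback.lift_fst_assoc, pullback.lift_snd_assoc] at e
    exact congrArg CommaMorphism.left e
  have hf₀ : ν.left ≫ f₀ = ψ.left := EffectiveEpi.fac _ _ _
  let f : G ⟶ H := Over.homMk f₀ (by
    rw [← cancel_epi ν.left, reassoc_of% hf₀, Over.w, Over.w])
  have hf : ν ≫ f = ψ := Over.OverMorphism.ext hf₀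
  have hfν : ∀ {X : Over S} (x y : X ⟶ sub G U), ((x ≫ jU) * (y ≫ jU)) ≫ f = (x ≫ F) * (y ≫ F) := fun x y => by
    have e : lift x y ≫ ν = (x ≫ jU) * (y ≫ jU) := by
      simp only [ν, ← Category.assoc, lift_map, Hom.mul_def]
    rw [← e, Category.assoc, hf]
    simp only [ψ, MonObj.comp_mul, lift_fst_assoc, lift_snd_assoc]
  have hres : jU ≫ f = F := by
    let w := jU ▷ G ≫ (divR (G := G)).hom
    let O := w.left ⁻¹ᵁ V
    have hw1 : w ≫ fst G G = (fst (sub G U) G ≫ jU) * (snd (sub G U) G)⁻¹ := by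
      simp [w, divR, MonObj.comp_mul, GrpObj.comp_inv]
    have hw2 : w ≫ snd G G = snd (sub G U) G := by simp [w, divR]
    obtain ⟨x, hx⟩ := exists_factor jU hjU (incl (sub G U ⊗ G) O ≫ w ≫ fst G G) fun y => hV1 y.2
    obtain ⟨c, hc⟩ := exists_factor jU hjU (incl (sub G U ⊗ G) O ≫ w ≫ snd G G) fun y => hV2 y.2
    obtain ⟨u, hu, huF⟩ := hmul (sub (sub G U ⊗ G) O) x c (by
      rw [hx, hc, ← comp_lift, ← comp_lift, lift_fst_snd, Category.comp_id]
      rintro _ ⟨y, rfl⟩
      exact y.2)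
    have hu' : u = incl (sub G U ⊗ G) O ≫ fst _ _ := by
      rw [← cancel_mono jU, hu, hx, hc, hw1, hw2, ← MonObj.comp_mul, inv_mul_cancel_right, Category.assoc]
    have h3 : fst (sub G U) G ≫ jU ≫ f = fst (sub G U) G ≫ F := by
      refine eq_of_eq_on (hV.preimage w (by
        rw [Over.comp_left]; exact fl_comp (fl_whisker jU hjFL G) (fl_iso _))) _ _ ?_
      rw [← Category.assoc, ← hu', ← Category.assoc u jU f, hu, hfν, ← huF, ← Category.assoc, ← hu']
    have := congrArg (fun z => lift (𝟙 (sub G U)) (1 : sub G U ⟶ G) ≫ z) h3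
    simpa using this
  have hfμ : μ[G] ≫ f = (f ⊗ₘ f) ≫ μ[H] := by
    refine eq_of_eq_on hV _ _ ?_
    obtain ⟨x, hx⟩ := exists_factor jU hjU (incl (G ⊗ G) V ≫ fst G G) fun y => hV1 y.2
    obtain ⟨c, hc⟩ := exists_factor jU hjU (incl (G ⊗ G) V ≫ snd G G) fun y => hV2 y.2
    have e : incl (G ⊗ G) V ≫ μ[G] = (x ≫ jU) * (c ≫ jU) := by
      rw [hx, hc, ← MonObj.comp_mul]
      simp [Hom.mul_def]
    have e' : incl (G ⊗ G) V ≫ (f ⊗ₘ f) ≫ μ[H] = (x ≫ jU ≫ f) * (c ≫ jU ≫ f) := by
      rw [← Category.assoc x, ← Category.assoc c, hx, hc, Category.assoc, Category.assoc, ← MonObj.comp_mul]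
      simp [Hom.mul_def, lift_map]
    rw [← Category.assoc, e, e', hfν, hres]
  have hfhom : IsMonHom f := by
    refine { one_hom := ?_, mul_hom := hfμ }
    have h1 := congrArg (fun z => lift (η[G]) (η[G]) ≫ z) hfμ
    simp only [← Category.assoc, lift_map] at h1
    rw [← Hom.mul_def, ← Hom.mul_def, show (η[G] : 𝟙_ (Over S) ⟶ G) = 1 by
      rw [Hom.one_def, toUnit_unit, Category.id_comp], _root_.one_mul] at h1
    rw [show (η[G] : 𝟙_ (Over S) ⟶ G) = 1 by rw [Hom.one_def, toUnit_unit, Category.id_comp]]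
    rw [left_eq_mul.1 h1, Hom.one_def, toUnit_unit, Category.id_comp]
  refine ⟨f, ⟨hfhom, hres⟩, fun g hg => ?_⟩
  haveI := hg.1
  haveI := hfhom
  refine S5435.result S G H U hU g f ?_
  rw [← hjU, ← Over.comp_left, ← Over.comp_left, hg.2, hres]

end Groth.Agent.WeilHom
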